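import Groth.Agent.EulerLES.Basic
import Groth.Agent.ProjTwist.Pn.MulX
import Groth.Agent.ProjTwist.Pn.Twist
import Groth.Agent.CohDev.Coh
import Mathlib.NumberTheory.BernoulliPolynomials

/-!
# The Euler characteristic of the twists of a coherent module on `P^n_A`, `A` Artinian, is a polynomial

Induction on the standard opens meeting the support: multiplication by `x_j` changes the module only by
modules supported off `D_+(x_j)`.
-/

set_option autoImplicit false

universe u

open CategoryTheory CategoryTheory.Limits AlgebraicGeometry TopologicalSpace Opposite Polynomial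

noncomputable section

namespace Groth.Agent.ChiPoly

theorem exists_antidiff (P : ℚ[X]) : ∃ Q : ℚ[X], ∀ x : ℚ, Q.eval (1 + x) - Q.eval x = P.eval x := by
  induction P using Polynomial.induction_on' with
  | add P P' h h' =>
    obtain ⟨Q, hQ⟩ := h
    obtain ⟨Q', hQ'⟩ := h'
    exact ⟨Q + Q', fun x => by simp only [eval_add, ← hQ x, ← hQ' x]; ring⟩
  | monomial m a =>
    refine ⟨C (a / (m + 1)) * Polynomial.bernoulli (m + 1), fun x => ?_⟩
    simp only [eval_mul, eval_C, bernoulli_eval_one_add, eval_monomial, Nat.add_sub_cancel]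
    push_cast
    field_simp
    ring

theorem exists_poly_of_diff (f : ℤ → ℤ) (P : ℚ[X]) (h : ∀ m : ℤ, ((f (m + 1) - f m : ℤ) : ℚ) = P.eval (m : ℚ)) :
    ∃ Q : ℚ[X], ∀ m : ℤ, (f m : ℚ) = Q.eval (m : ℚ) := by
  obtain ⟨Q, hQ⟩ := exists_antidiff P
  refine ⟨Q + C ((f 0 : ℚ) - Q.eval 0), fun m => ?_⟩
  rw [eval_add, eval_C]
  induction m using Int.induction_on with
  | zero => simp
  | succ i ih =>
    have h1 := h i
    have h2 := hQ (i : ℚ)
    push_cast at h1 ih ⊢
    rw [show (i : ℚ) + 1 = 1 + i by ring]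
    linarith
  | pred i ih =>
    have h1 := h (-(i : ℤ) - 1)
    rw [show -(i : ℤ) - 1 + 1 = -i by ring] at h1
    have h2 := hQ (-(i : ℚ) - 1)
    rw [show 1 + (-(i : ℚ) - 1) = -i by ring] at h2
    push_cast at h1 ih ⊢
    linarith

open Groth.Agent.PullStalk.Exact Groth.Agent.ProjTwist Groth.Agent.ProjTwist.Pn

section

variable {X : Scheme.{u}}

/-- isomorphic modules have isomorphic cohomology over the base -/
def hLinIso (A : Type u) [CommRing A] [X.Over (Spec (CommRingCat.of A))] {M N : X.Modules} (e : M ≅ N)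
    (i : ℕ) : Coh.HH X M i ≃ₗ[A] Coh.HH X N i :=
  LinearEquiv.ofBijective (CohLin.overLin A (CohLin.hMap e.hom i)) (CohLin.hIso e i).bijective

theorem shortExact_factorThruImage {M N : X.Modules} (φ : M ⟶ N) :
    (ShortComplex.mk (kernel.ι φ) (Abelian.factorThruImage φ) (by
      rw [← cancel_mono (Abelian.image.ι φ), Category.assoc, Abelian.image.fac, kernel.condition,
        Limits.zero_comp])).ShortExact where
  exact := ShortComplex.exact_of_f_is_kernel _ (KernelFork.IsLimit.ofι' _ _ fun {W} k hk =>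
    ⟨kernel.lift φ k (by rw [← Abelian.image.fac φ, reassoc_of% hk, Limits.zero_comp]),
      kernel.lift_ι _ _ _⟩)

theorem shortExact_image {M N : X.Modules} (φ : M ⟶ N) :
    (ShortComplex.mk (Abelian.image.ι φ) (cokernel.π φ) (kernel.condition _)).ShortExact where
  exact := ShortComplex.exact_of_f_is_kernel _ (kernelIsKernel (cokernel.π φ))

theorem isZero_of_stalks {M : X.Modules} (h : ∀ y : X, Subsingleton (M.presheaf.stalk y)) : IsZero M := by
  rw [IsZero.iff_id_eq_zero]
  ext U s
  exact TopCat.Presheaf.section_ext (⟨M.presheaf, M.isSheaf⟩ : TopCat.Sheaf AddCommGrpCat X) U _ _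
    fun y hy => (h y).elim _ _

theorem subsingleton_HH_of_isZero {M : X.Modules} (h : IsZero M) (i : ℕ) :
    Subsingleton (Coh.HH X M i) := by
  refine subsingleton_of_forall_eq 0 fun x => ?_
  rw [← CohLin.hMap_id M i x, (IsZero.iff_id_eq_zero M).1 h]
  exact map_zero (CohLin.hMapHom M M i x)

end

variable {n : ℕ} {A : Type u} [CommRing A] [IsArtinianRing A]

local notation "P" => CohB1.ProjSpace n A

/-- `χ(G(m))`, by lengths -/
def e (G : (CohB1.ProjSpace n A).Modules) (m : ℤ) : ℤ :=
  ∑ i ∈ Finset.range (n + 1), (-1 : ℤ) ^ i * EulerLES.ℓ A (Coh.HH P (twF G m) i)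

theorem e_iso {G G' : (CohB1.ProjSpace n A).Modules} (φ : G ≅ G') (m : ℤ) : e G m = e G' m := by
  refine Finset.sum_congr rfl fun i _ => congrArg _ ?_
  exact congrArg (fun l : ℕ∞ => (l.toNat : ℤ)) (hLinIso A (twCongr φ m) i).length_eq

theorem e_twist {G : (CohB1.ProjSpace n A).Modules} (a m c : ℤ) (h : a + m = c) :
    e (twF G a) m = e G c := by
  refine Finset.sum_congr rfl fun i _ => congrArg _ ?_
  exact congrArg (fun l : ℕ∞ => (l.toNat : ℤ)) (hLinIso A (twTw G a m c h) i).length_eq

theorem e_add {S : ShortComplex (CohB1.ProjSpace n A).Modules} (hS : S.ShortExact) (h₁ : Coh.IsCoh S.X₁)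
    (h₂ : Coh.IsCoh S.X₂) (h₃ : Coh.IsCoh S.X₃) (m : ℤ) : e S.X₂ m = e S.X₁ m + e S.X₃ m :=
  have : Subsingleton (Coh.HH P (S.map (twFun n A m)).X₁ (n + 1)) :=
    subsingleton_above _ (isQCoh_tw _ h₁.1 m) _ (Nat.lt_succ_self n)
  EulerLES.sum_neg_one_pow_ℓ (shortExact_tw hS m) A n
    (fun i => finite_cohomology _ (isCoh_tw h₁ m) i) (fun i => finite_cohomology _ (isCoh_tw h₂ m) i)
    (fun i => finite_cohomology _ (isCoh_tw h₃ m) i)

/-- `G` lives outside the standard opens not indexed by `s` -/
def Off (s : Finset (Fin (n + 1))) (G : (CohB1.ProjSpace n A).Modules) : Prop :=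
  ∀ y : P, (∀ j ∈ s, y ∉ stdOpen n A j) → Subsingleton (G.presheaf.stalk y)

theorem exists_poly_off (s : Finset (Fin (n + 1))) : ∀ G : (CohB1.ProjSpace n A).Modules, Coh.IsCoh G →
    Off s G → ∃ Q : ℚ[X], ∀ m : ℤ, (e G m : ℚ) = Q.eval (m : ℚ) := by
  classical
  induction s using Finset.induction with
  | empty =>
    intro G _ hG
    have h0 : IsZero G := isZero_of_stalks fun y => hG y fun _ h => absurd h (Finset.notMem_empty _)
    refine ⟨0, fun m => ?_⟩
    have : e G m = 0 := Finset.sum_eq_zero fun i _ => by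
      have : Subsingleton (Coh.HH P (twF G m) i) :=
        subsingleton_HH_of_isZero ((twFun n A m).map_isZero h0) i
      rw [EulerLES.ℓ_eq_zero, mul_zero]
    simp [this]
  | @insert j s hj ih =>
    intro G hG hoff
    have : IsLocallyNoetherian P := isLocallyNoetherian_projSpace n A
    let φ : twF G (-1) ⟶ G := Kosz.ta (mulX j) G
    have hTG : Coh.IsCoh (twF G (-1)) := isCoh_tw hG (-1)
    have hK := CohDev.isCoh_kernel φ hTG hG.1
    have hI := CohDev.isCoh_image φ hTG hG.1
    have hC := CohDev.isCoh_cokernel φ hTG.1 hG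
    have hbij : ∀ (y : P) (j' : Fin (n + 1)), y ∈ stdOpen n A j' →
        Function.Bijective (stalkLin (Kosz.ta (mulX j') G) y) := fun y j' hy => mulX_bijAt j' y hy G
    -- kernel and cokernel vanish on `D_+(x_j)` and outside the support
    have key : ∀ y : P, (∀ i ∈ s, y ∉ stdOpen n A i) →
        Subsingleton ((kernel φ).presheaf.stalk y) ∧ Subsingleton ((cokernel φ).presheaf.stalk y) := by
      intro y hy
      obtain ⟨i1, -, -⟩ := stalk_exact (shortExact_factorThruImage φ) y
      obtain ⟨-, hex2, s2⟩ := stalk_exact (shortExact_image φ) y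
      by_cases hyj : y ∈ stdOpen n A j
      · obtain ⟨hinj, hsur⟩ := hbij y j hyj
        constructor
        · refine subsingleton_of_forall_eq 0 fun t => i1 ((hinj ?_).trans (map_zero _).symm)
          refine ((Omega.Stalks.stalkLin_comp (kernel.ι φ) φ y t).symm.trans ?_).trans (map_zero _).symm
          rw [kernel.condition]
          exact Omega.Stalks.stalkLin_zero y t
        · refine subsingleton_of_forall_eq 0 fun t => ?_
          obtain ⟨a, rfl⟩ := s2 t
          obtain ⟨b, rfl⟩ := hsur a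
          refine (Omega.Stalks.stalkLin_comp φ (cokernel.π φ) y b).symm.trans ?_
          rw [cokernel.condition]
          exact Omega.Stalks.stalkLin_zero y b
      · have hG0 : Subsingleton (G.presheaf.stalk y) := hoff y fun i hi => by
          rcases Finset.mem_insert.1 hi with rfl | hi
          exacts [hyj, hy i hi]
        obtain ⟨j', hj'⟩ := Opens.mem_iSup.mp ((iSup_stdOpen n A).ge (trivial : y ∈ (⊤ : (P).Opens)))
        have hTG0 : Subsingleton ((twF G (-1)).presheaf.stalk y) := (hbij y j' hj').1.subsingleton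
        exact ⟨i1.subsingleton, s2.subsingleton⟩
    obtain ⟨QK, hQK⟩ := ih _ hK fun y hy => (key y hy).1
    obtain ⟨QC, hQC⟩ := ih _ hC fun y hy => (key y hy).2
    refine exists_poly_of_diff (e G) ((QC - QK).comp (Polynomial.X + 1)) fun m => ?_
    have h1 := e_add (shortExact_factorThruImage φ) hK hTG hI (m + 1)
    have h2 := e_add (shortExact_image φ) hI hG hC (m + 1)
    have h3 : e (twF G (-1)) (m + 1) = e G m := e_twist (-1) (m + 1) m (by ring)
    dsimp only at h1 h2
    rw [eval_comp, eval_add, eval_X, eval_one, eval_sub,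
      show ((m : ℚ) + 1) = ((m + 1 : ℤ) : ℚ) by push_cast; ring, ← hQC, ← hQK, h2, ← h3, h1]
    push_cast
    ring

theorem exists_poly {G : (CohB1.ProjSpace n A).Modules} (hG : Coh.IsCoh G) :
    ∃ Q : ℚ[X], ∀ m : ℤ, (e G m : ℚ) = Q.eval (m : ℚ) :=
  exists_poly_off Finset.univ G hG fun y hy => by
    obtain ⟨j, hj⟩ := Opens.mem_iSup.mp ((iSup_stdOpen n A).ge (trivial : y ∈ (⊤ : (P).Opens)))
    exact absurd hj (hy j (Finset.mem_univ j))

end Groth.Agent.ChiPoly
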